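import Groth.Agent.Lib.CIFitt27.CplMain
import Mathlib.RingTheory.TensorProduct.Basic
import Mathlib.LinearAlgebra.TensorProduct.Tower

/-!
# The levels of a formal family of complete intersections
-/

universe u

open MvPolynomial
open scoped TensorProduct

noncomputable section

namespace Groth.Agent.CIFitt27

/-- Cokernels of matrices commute with quotients of the ring. -/
theorem nonempty_tensor_quotient {R : Type u} [CommRing R] (I : Ideal R) {c r : ℕ} (J : Matrix (Fin c) (Fin r) R)
    {T : Type u} [AddCommGroup T] [Module R T] {T' : Type u} [AddCommGroup T'] [Module (R ⧸ I) T']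
    (x : Fin c → T) (hx : Submodule.span R (Set.range x) = ⊤)
    (hrel : FittingLib.rel (R := R) x = LinearMap.range J.mulVecLin)
    (x' : Fin c → T') (hx' : Submodule.span (R ⧸ I) (Set.range x') = ⊤)
    (hrel' : FittingLib.rel (R := R ⧸ I) x' = LinearMap.range (J.map (Ideal.Quotient.mk I)).mulVecLin) :
    Nonempty (TensorProduct R (R ⧸ I) T ≃ₗ[R ⧸ I] T') := by
  letI : Module R T' := Module.compHom T' (algebraMap R (R ⧸ I))
  haveI : IsScalarTower R (R ⧸ I) T' := IsScalarTower.of_algebraMap_smul fun _ _ => rfl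
  let π := Fintype.linearCombination R x
  have hπ : Function.Surjective π := by
    rw [← LinearMap.range_eq_top, Fintype.range_linearCombination]; exact hx
  let π' := Fintype.linearCombination R x'
  have hker : LinearMap.ker π ≤ LinearMap.ker π' := fun v hv => by
    obtain ⟨w, rfl⟩ := hrel.le hv
    have h : (fun i => Ideal.Quotient.mk I (J.mulVecLin w i)) ∈ FittingLib.rel (R := R ⧸ I) x' :=
      hrel'.ge ⟨fun j => Ideal.Quotient.mk I (w j), funext fun i => by
        simp [Matrix.mulVec, dotProduct, map_sum]⟩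
    rw [FittingLib.mem_rel] at h
    exact LinearMap.mem_ker.2 ((Fintype.linearCombination_apply R (v := x') _).trans h)
  let L : T →ₗ[R] T' :=
    ((LinearMap.ker π).liftQ π' hker).comp (π.quotKerEquivOfSurjective hπ).symm.toLinearMap
  have hL : ∀ v, L (π v) = π' v := fun v => by
    show (LinearMap.ker π).liftQ π' hker ((π.quotKerEquivOfSurjective hπ).symm (π v)) = _
    rw [show (π.quotKerEquivOfSurjective hπ).symm (π v) = Submodule.Quotient.mk v from
      (LinearEquiv.symm_apply_eq _).2 (LinearMap.quotKerEquivOfSurjective_apply_mk _ _ _).symm]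
    rfl
  let Φ : TensorProduct R (R ⧸ I) T →ₗ[R ⧸ I] T' := LinearMap.liftBaseChange (R ⧸ I) L
  have hΦ : ∀ (b : R ⧸ I) (i : Fin c), Φ (b ⊗ₜ x i) = b • x' i := fun b i => by
    rw [LinearMap.liftBaseChange_tmul, ← (Fintype.linearCombination_apply_single R x i 1).trans (one_smul _ _), hL,
      Fintype.linearCombination_apply_single, one_smul]
  let π₁ : (Fin c → R ⧸ I) →ₗ[R ⧸ I] T' := Fintype.linearCombination (R ⧸ I) x'
  let γ : (Fin c → R ⧸ I) →ₗ[R ⧸ I] TensorProduct R (R ⧸ I) T :=
    Fintype.linearCombination (R ⧸ I) fun i => (1 : R ⧸ I) ⊗ₜ[R] x i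
  have hΦγ : ∀ v, Φ (γ v) = π₁ v := fun v => by
    simp only [γ, π₁, Fintype.linearCombination_apply, map_sum, map_smul, hΦ, one_smul]
  have hγ : Function.Surjective γ := fun z => by
    induction z using TensorProduct.induction_on with
    | zero => exact ⟨0, map_zero γ⟩
    | tmul b t =>
      obtain ⟨v, rfl⟩ := hπ t
      refine ⟨fun i => b * Ideal.Quotient.mk I (v i), ?_⟩
      simp only [γ, π, Fintype.linearCombination_apply, TensorProduct.tmul_sum, TensorProduct.tmul_smul,
        TensorProduct.smul_tmul', smul_eq_mul, mul_one]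
      exact Finset.sum_congr rfl fun i _ => by rw [Algebra.smul_def, mul_comm]; rfl
    | add z w hz hw =>
      obtain ⟨v, rfl⟩ := hz
      obtain ⟨v', rfl⟩ := hw
      exact ⟨v + v', map_add γ v v'⟩
  refine ⟨LinearEquiv.ofBijective Φ ⟨(injective_iff_map_eq_zero Φ).2 fun z hz => ?_, fun t => ?_⟩⟩
  · obtain ⟨v, rfl⟩ := hγ z
    rw [hΦγ, show π₁ v = 0 ↔ v ∈ FittingLib.rel (R := R ⧸ I) x' from Iff.rfl, hrel'] at hz
    obtain ⟨w, rfl⟩ := hz
    choose w' hw' using fun j => Ideal.Quotient.mk_surjective (w j)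
    have e : (J.map (Ideal.Quotient.mk I)).mulVecLin w = fun i => Ideal.Quotient.mk I (J.mulVecLin w' i) :=
      funext fun i => by simp [Matrix.mulVec, dotProduct, map_sum, hw']
    rw [e]
    have h0 : π (J.mulVecLin w') = 0 := hrel.ge ⟨w', rfl⟩
    have : γ (fun i => Ideal.Quotient.mk I (J.mulVecLin w' i)) = (1 : R ⧸ I) ⊗ₜ π (J.mulVecLin w') := by
      simp only [γ, π, Fintype.linearCombination_apply, TensorProduct.tmul_sum, TensorProduct.tmul_smul,
        TensorProduct.smul_tmul', smul_eq_mul, mul_one]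
      exact Finset.sum_congr rfl fun i _ => by rw [Algebra.smul_def, mul_one]; rfl
    rw [this, h0, TensorProduct.tmul_zero]
  · obtain ⟨v, rfl⟩ := (Submodule.mem_span_range_iff_exists_fun _).1 (hx'.ge (Submodule.mem_top (x := t)))
    exact ⟨γ v, (hΦγ v).trans (Fintype.linearCombination_apply _ _ v)⟩

variable {k : Type u} [Field k] {r c : ℕ}

local notation "τA" => algebraMap (PowerSeries k) (At (R := PowerSeries k) PowerSeries.X r) PowerSeries.X

variable {B : Type u} [CommRing B] [Algebra (PowerSeries k) B]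
  (ψ : At (R := PowerSeries k) PowerSeries.X r →ₐ[PowerSeries k] B)
  (a : Fin c → At (R := PowerSeries k) PowerSeries.X r)

local notation "τB" => algebraMap (PowerSeries k) B PowerSeries.X

theorem level_pres (hψ : Function.Surjective ψ) (hker : RingHom.ker ψ.toRingHom = Ideal.span (Set.range a)) (N : ℕ) :
    ∃ x : Fin r → KaehlerDifferential (PowerSeries k) (B ⧸ Ideal.span {τB ^ N}),
      Submodule.span (B ⧸ Ideal.span {τB ^ N}) (Set.range x) = ⊤ ∧
      FittingLib.rel (R := B ⧸ Ideal.span {τB ^ N}) x =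
        LinearMap.range ((jHat PowerSeries.X a ψ).map (Ideal.Quotient.mk (Ideal.span {τB ^ N}))).vecMulLinear := by
  let I : Ideal B := Ideal.span {τB ^ N}
  let P := MvPolynomial (Fin r) (PowerSeries k)
  let φ : P →ₐ[PowerSeries k] B ⧸ I :=
    ((Ideal.Quotient.mkₐ (PowerSeries k) I).comp ψ).comp
      (IsScalarTower.toAlgHom (PowerSeries k) P (At (R := PowerSeries k) PowerSeries.X r))
  have hq : Ideal.Quotient.mk I (τB ^ N) = 0 := Ideal.Quotient.eq_zero_iff_mem.2 (Ideal.mem_span_singleton_self _)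
  have hφ' : ∀ g : P, φ g = Ideal.Quotient.mk I (ψ (AdicCompletion.of _ _ g)) := fun g => rfl
  have happ : ∀ f, ∃ g : P, Ideal.Quotient.mk I (ψ f) = φ g ∧
      ∀ j, Ideal.Quotient.mk I (ψ (dhat PowerSeries.X j f)) = φ (pderiv j g) := fun f => by
    obtain ⟨g, y, rfl⟩ := exists_of_add (PowerSeries.X : PowerSeries k) f N
    refine ⟨g, ?_, fun j => ?_⟩
    · simp only [map_add, map_mul, AlgHom.commutes, map_pow, hφ']
      rw [← map_pow (Ideal.Quotient.mk I), hq, zero_mul, add_zero]
    · rw [map_add, dhat_of, Derivation.leibniz, Derivation.map_algebraMap, smul_zero, add_zero, smul_eq_mul,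
        map_add, map_mul, AlgHom.commutes, map_pow, map_add, map_mul, hq, zero_mul, add_zero, hφ']
  have hφ : Function.Surjective φ := fun x => by
    obtain ⟨b, rfl⟩ := Ideal.Quotient.mk_surjective x
    obtain ⟨f, rfl⟩ := hψ b
    obtain ⟨g, hg, -⟩ := happ f
    exact ⟨g, hg.symm⟩
  choose f y hfy using fun i => exists_of_add (PowerSeries.X : PowerSeries k) (a i) N
  let a' : Fin (c + 1) → P := Fin.cons (C (PowerSeries.X ^ N)) f
  have hker' : RingHom.ker φ.toRingHom = Ideal.span (Set.range a') := by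
    refine le_antisymm (fun g hg => ?_) (Ideal.span_le.2 ?_)
    · obtain ⟨b, hb⟩ := Ideal.mem_span_singleton'.1 (Ideal.Quotient.eq_zero_iff_mem.1
        (show Ideal.Quotient.mk I (ψ (AdicCompletion.of _ _ g)) = 0 from hg))
      obtain ⟨z, rfl⟩ := hψ b
      let A' := At (R := PowerSeries k) PowerSeries.X r
      have hmem : (AdicCompletion.of _ _ g : A') - z * τA ^ N ∈ Ideal.span (Set.range a) := hker.le (by
        show ψ ((AdicCompletion.of _ _ g : A') - z * τA ^ N) = 0
        rw [map_sub, map_mul, map_pow, AlgHom.commutes, hb, sub_self])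
      let ev := (AdicCompletion.evalₐ (It (r := r) (PowerSeries.X : PowerSeries k)) N).toRingHom
      have hevof : ∀ p : P, ev (AdicCompletion.of _ _ p) = Ideal.Quotient.mk _ p := fun p => AdicCompletion.evalₐ_of _ _ p
      have hC : (Ideal.Quotient.mk (It (r := r) (PowerSeries.X : PowerSeries k) ^ N)) (C (PowerSeries.X ^ N)) = 0 :=
        Ideal.Quotient.eq_zero_iff_mem.2 (by rw [map_pow]; exact Ideal.pow_mem_pow (Ideal.mem_span_singleton_self _) N)
      have hτ : ev (τA ^ N) = 0 := by
        rw [← map_pow, show algebraMap (PowerSeries k) A' (PowerSeries.X ^ N) =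
          AdicCompletion.of (It (r := r) (PowerSeries.X : PowerSeries k)) _ (C (PowerSeries.X ^ N) : P) from rfl, hevof]
        exact hC
      have h1 := Ideal.mem_map_of_mem ev hmem
      rw [map_sub, map_mul, hτ, mul_zero, sub_zero, hevof, Ideal.map_span, ← Set.range_comp] at h1
      have h2 : Ideal.span (Set.range (ev ∘ a)) ≤ (Ideal.span (Set.range a')).map (Ideal.Quotient.mk _) := by
        rw [Ideal.span_le]
        rintro _ ⟨i, rfl⟩
        show ev (a i) ∈ _
        rw [hfy i, map_add, map_mul, map_pow (algebraMap (PowerSeries k) A'), hτ, zero_mul, add_zero, hevof]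
        exact Ideal.mem_map_of_mem _ (Ideal.subset_span ⟨i.succ, by simp [a']⟩)
      have h3 := (Ideal.mem_map_iff_of_surjective _ Ideal.Quotient.mk_surjective).1 (h2 h1)
      obtain ⟨g', hg', e⟩ := h3
      rw [← sub_sub_cancel g' g]
      refine sub_mem hg' ?_
      have h4 := Ideal.Quotient.eq.1 e
      rw [It, Ideal.span_singleton_pow, ← map_pow, Ideal.mem_span_singleton'] at h4
      obtain ⟨w, hw⟩ := h4
      rw [← hw]
      exact Ideal.mul_mem_left _ _ (Ideal.subset_span ⟨0, by simp [a']⟩)
    · rintro _ ⟨i, rfl⟩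
      rw [SetLike.mem_coe, RingHom.mem_ker]
      cases i using Fin.cases with
      | zero =>
        show φ (C (PowerSeries.X ^ N)) = 0
        rw [← MvPolynomial.algebraMap_eq, AlgHom.commutes, map_pow]
        exact hq
      | succ i =>
        show φ (f i) = 0
        have : ψ (a i) = 0 := RingHom.mem_ker.1 (hker.ge (Ideal.subset_span ⟨i, rfl⟩))
        rw [hfy i, map_add, map_mul, AlgHom.commutes, map_pow] at this
        rw [hφ', eq_neg_of_add_eq_zero_left this, map_neg, map_mul, hq, zero_mul, neg_zero]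
  refine ⟨dX φ, span_dX φ hφ, (rel_dX φ a' hφ hker').trans ?_⟩
  have hrow : ∀ i j, jac φ a' i.succ j = Ideal.Quotient.mk I (jHat PowerSeries.X a ψ i j) := fun i j => by
    show φ (pderiv j (f i)) = _
    rw [jHat, hfy i, map_add, dhat_of, Derivation.leibniz, Derivation.map_algebraMap, smul_zero, add_zero,
      smul_eq_mul, map_add, map_mul, AlgHom.commutes, map_pow, map_add, map_mul, hq, zero_mul, add_zero, hφ']
  have hrow0 : ∀ j, jac φ a' 0 j = 0 := fun j => by
    show φ (pderiv j (C (PowerSeries.X ^ N))) = 0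
    rw [pderiv_C, map_zero]
  have hvm : ∀ v, Matrix.vecMul v (jac φ a') = Matrix.vecMul (fun i => v i.succ)
      ((jHat PowerSeries.X a ψ).map (Ideal.Quotient.mk I)) := fun v => funext fun j => by
    simp [Matrix.vecMul, dotProduct, Fin.sum_univ_succ, hrow0, hrow]
  refine le_antisymm ?_ ?_
  · rintro _ ⟨v, rfl⟩
    exact ⟨fun i => v i.succ, (hvm v).symm⟩
  · rintro _ ⟨v, rfl⟩
    exact ⟨Fin.cons 0 v, by simpa using hvm (Fin.cons 0 v)⟩

theorem level_injective [Module.Flat (PowerSeries k) B] [PerfectField k]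
    (hψ : Function.Surjective ψ) (hker : RingHom.ker ψ.toRingHom = Ideal.span (Set.range a))
    (hreg : RingTheory.Sequence.IsRegular (At (R := PowerSeries k) PowerSeries.X r ⧸ Ideal.span {τA})
      ((List.ofFn a).map (Ideal.Quotient.mk (Ideal.span {τA}))))
    [IsReduced (B ⧸ Ideal.span {τB})] (N : ℕ) :
    Function.Injective ((jHat PowerSeries.X a ψ).map (Ideal.Quotient.mk (Ideal.span {τB ^ N}))).vecMulLinear := by
  obtain ⟨_, φ, hφ, hkerφ, hcomm⟩ := exists_special ψ a hψ hker
  let q : B →+* B ⧸ Ideal.span {τB} := Ideal.Quotient.mk _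
  have hJ : ∀ i j, q (jHat PowerSeries.X a ψ i j) = jac φ (fun i => red0 k r (a i)) i j := fun i j => by
    rw [jHat, hcomm, red0_dhat]
    rfl
  have hinj := jac_injective φ (fun i => red0 k r (a i)) hφ (regular_red0 a hreg).toIsWeaklyRegular hkerφ
  have hτ : IsSMulRegular B (PowerSeries.X : PowerSeries k) :=
    Module.Flat.isSMulRegular_of_isRegular (IsRegular.of_ne_zero PowerSeries.X_ne_zero)
  have hstep : ∀ (n : ℕ) (v : Fin c → B),
      (∀ j, Matrix.vecMul v (jHat PowerSeries.X a ψ) j ∈ Ideal.span {τB ^ n}) → ∀ i, v i ∈ Ideal.span {τB ^ n} := fun n => by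
    induction n with
    | zero => simp
    | succ n ih =>
      intro v hv
      have h1 : (fun i => q (v i)) = 0 := hinj (by
        rw [map_zero]
        funext j
        have : q (Matrix.vecMul v (jHat PowerSeries.X a ψ) j) = 0 := Ideal.Quotient.eq_zero_iff_mem.2 (by
          obtain ⟨b, hb⟩ := Ideal.mem_span_singleton'.1 (hv j)
          rw [← hb, pow_succ, ← mul_assoc]
          exact Ideal.mul_mem_left _ _ (Ideal.mem_span_singleton_self _))
        simpa [Matrix.vecMul, dotProduct, map_sum, map_mul, hJ] using this)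
      choose w hw using fun i => Ideal.mem_span_singleton'.1 (Ideal.Quotient.eq_zero_iff_mem.1 (congrFun h1 i))
      have h2 : ∀ j, Matrix.vecMul w (jHat PowerSeries.X a ψ) j ∈ Ideal.span {τB ^ n} := fun j => by
        obtain ⟨b, hb⟩ := Ideal.mem_span_singleton'.1 (hv j)
        refine Ideal.mem_span_singleton'.2 ⟨b, hτ ?_⟩
        show PowerSeries.X (R := k) • (b * τB ^ n) = PowerSeries.X (R := k) • Matrix.vecMul w (jHat PowerSeries.X a ψ) j
        rw [Algebra.smul_def, Algebra.smul_def,
          show τB * (b * τB ^ n) = b * τB ^ (n + 1) by ring, hb]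
        simp only [Matrix.vecMul, dotProduct, Finset.mul_sum, ← hw]
        exact Finset.sum_congr rfl fun i _ => by ring
      intro i
      obtain ⟨b, hb⟩ := Ideal.mem_span_singleton'.1 (ih w h2 i)
      exact Ideal.mem_span_singleton'.2 ⟨b, by rw [← hw i, ← hb]; ring⟩
  refine (injective_iff_map_eq_zero _).2 fun v hv => funext fun i => ?_
  choose v' hv' using fun i => Ideal.Quotient.mk_surjective (v i)
  rw [← hv' i]
  refine Ideal.Quotient.eq_zero_iff_mem.2 (hstep N v' (fun j => Ideal.Quotient.eq_zero_iff_mem.1 ?_) i)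
  refine Eq.trans ?_ (congrFun hv j)
  simp [Matrix.vecMul, dotProduct, map_sum, hv']

end Groth.Agent.CIFitt27
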