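import Groth.Agent.Lib.CIFitt27.Pres
import Mathlib.Algebra.Category.ModuleCat.Projective
import Mathlib.Algebra.Category.ModuleCat.EnoughInjectives
import Mathlib.Algebra.Category.ModuleCat.Ext.HasExt
import Mathlib.Algebra.Homology.DerivedCategory.Ext.Linear
import Mathlib.Algebra.Homology.DerivedCategory.Ext.EnoughProjectives
import Mathlib.Algebra.Homology.DerivedCategory.Ext.ExactSequences
import Mathlib.Algebra.Homology.ShortComplex.ModuleCat
import Mathlib.RingTheory.Ideal.IsPrimary
import Mathlib.LinearAlgebra.Dimension.StrongRankCondition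

/-!
# `Ext¹` of differentials of a complete intersection
-/

universe u

open CategoryTheory CategoryTheory.Limits Abelian

noncomputable section

namespace Groth.Agent.CIFitt27

variable {R M : Type u} [CommRing R] [AddCommGroup M] [Module R M] {r c : ℕ}

theorem exists_extMap {C : Type*} [Category* C] [Abelian C] [Linear R C] [HasExt.{u} C] {S : ShortComplex C}
    (hS : S.ShortExact) [Projective S.X₂] (Y : C) :
    ∃ Φ : (S.X₁ ⟶ Y) →ₗ[R] Ext.{u} S.X₃ Y 1, Function.Surjective Φ ∧ ∀ φ, Φ φ = 0 ↔ ∃ h, S.f ≫ h = φ := by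
  refine ⟨{ toFun := fun φ => hS.extClass.comp (Ext.mk₀ φ) (add_zero 1)
            map_add' := fun φ χ => by rw [Ext.mk₀_add, Ext.comp_add]
            map_smul' := fun t φ => by rw [Ext.mk₀_smul, Ext.comp_smul, RingHom.id_apply] },
    fun x => ?_, fun φ => ⟨fun hφ => ?_, ?_⟩⟩
  · obtain ⟨x₁, hx₁⟩ := Ext.contravariant_sequence_exact₃ hS Y x (Ext.eq_zero_of_projective _) (by rfl : 1 + 0 = 1)
    obtain ⟨φ, rfl⟩ := (Ext.mk₀_bijective _ _).2 x₁
    exact ⟨φ, hx₁⟩
  · obtain ⟨x₂, hx₂⟩ := Ext.contravariant_sequence_exact₁ hS Y (Ext.mk₀ φ) (by rfl : 1 + 0 = 1) hφ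
    obtain ⟨h, rfl⟩ := (Ext.mk₀_bijective _ _).2 x₂
    rw [Ext.mk₀_comp_mk₀] at hx₂
    exact ⟨h, (Ext.mk₀_bijective _ _).1 hx₂⟩
  · rintro ⟨h, rfl⟩
    show hS.extClass.comp _ (add_zero 1) = 0
    rw [← Ext.mk₀_comp_mk₀, hS.extClass_comp_assoc]

theorem linComb_single {n : ℕ} (v : Fin n → R) (i : Fin n) :
    Fintype.linearCombination R v (Pi.single i 1) = v i :=
  (Fintype.linearCombination_apply_single R _ i 1).trans (one_smul _ _)

theorem linComb_mulVec (J : Matrix (Fin c) (Fin r) R) (w : Fin r → R) :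
    Fintype.linearCombination R (Matrix.mulVec J w) = Fintype.linearCombination R w ∘ₗ J.vecMulLinear := by
  refine LinearMap.ext fun x => ?_
  simp only [Fintype.linearCombination_apply, smul_eq_mul, LinearMap.comp_apply, Matrix.vecMulLinear_apply]
  exact Matrix.dotProduct_mulVec x J w

theorem linComb_eq {n : ℕ} (h : (Fin n → R) →ₗ[R] R) :
    Fintype.linearCombination R (fun j => h (Pi.single j 1)) = h :=
  LinearMap.pi_ext' fun i => LinearMap.ext_ring (linComb_single _ i)

/-- The rows of linear forms with coefficient vectors. -/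
def coeffHom (n : ℕ) : (Fin n → R) →ₗ[R] ((ModuleCat.of R (Fin n → R)) ⟶ ModuleCat.of R R) where
  toFun v := ModuleCat.ofHom (Fintype.linearCombination R v)
  map_add' v w := ModuleCat.hom_ext <| LinearMap.ext fun x => by
    simp [Fintype.linearCombination_apply, mul_add, Finset.sum_add_distrib]
  map_smul' t v := ModuleCat.hom_ext <| LinearMap.ext fun x => by
    simp [Fintype.linearCombination_apply, Finset.mul_sum, mul_left_comm]

theorem exists_ext_pres (J : Matrix (Fin c) (Fin r) R) (g : (Fin r → R) →ₗ[R] M)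
    (hJ : Function.Injective J.vecMulLinear) (hg : Function.Surjective g)
    (hex : LinearMap.range J.vecMulLinear = LinearMap.ker g) :
    ∃ x : Fin c → Abelian.Ext.{u} (ModuleCat.of R M) (ModuleCat.of R R) 1,
      Submodule.span R (Set.range x) = ⊤ ∧ FittingLib.rel (R := R) x = LinearMap.range J.mulVecLin := by
  classical
  let S : ShortComplex (ModuleCat.{u} R) :=
    ShortComplex.moduleCatMk J.vecMulLinear g (LinearMap.ext fun x => hex.le ⟨x, rfl⟩)
  have hS : S.ShortExact :=
    { exact := (ShortComplex.moduleCat_exact_iff _).2 fun x hx => hex.ge hx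
      mono_f := (ModuleCat.mono_iff_injective _).2 hJ
      epi_g := (ModuleCat.epi_iff_surjective _).2 hg }
  haveI : Projective S.X₂ :=
    ModuleCat.projective_of_free (M := ModuleCat.of R (Fin r → R)) (Pi.basisFun R (Fin r))
  obtain ⟨Φ, hΦs, hΦ0⟩ := exists_extMap (R := R) hS (ModuleCat.of R R)
  let Ψ : (Fin c → R) →ₗ[R] Ext.{u} S.X₃ (ModuleCat.of R R) 1 := Φ.comp (coeffHom c)
  have hsurj : Function.Surjective Ψ := fun x => by
    obtain ⟨φ, rfl⟩ := hΦs x
    exact ⟨fun i => φ.hom (Pi.single i 1), congrArg Φ (ModuleCat.hom_ext (linComb_eq φ.hom))⟩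
  have hker : ∀ v, Ψ v = 0 ↔ v ∈ LinearMap.range J.mulVecLin := fun v => by
    refine (hΦ0 _).trans ⟨fun ⟨h, hh⟩ => ⟨fun j => h.hom (Pi.single j 1), funext fun i => ?_⟩, ?_⟩
    · have h1 := congrArg (fun t => ModuleCat.Hom.hom t) hh
      have h2 : Fintype.linearCombination R (Matrix.mulVec J fun j => h.hom (Pi.single j 1)) =
          Fintype.linearCombination R v := by
        rw [linComb_mulVec]
        exact (congrArg (fun t => t ∘ₗ J.vecMulLinear) (linComb_eq h.hom)).trans h1
      exact (linComb_single _ i).symm.trans ((LinearMap.congr_fun h2 _).trans (linComb_single v i))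
    · rintro ⟨w, rfl⟩
      exact ⟨ModuleCat.ofHom (Fintype.linearCombination R w),
        ModuleCat.hom_ext (linComb_mulVec J w).symm⟩
  let x : Fin c → Ext.{u} S.X₃ (ModuleCat.of R R) 1 := fun j => Ψ (Pi.single j 1)
  have hΨx : ∀ v, Ψ v = ∑ j, v j • x j := fun v => by
    conv_lhs => rw [pi_eq_sum_univ' v]
    simp only [x, map_sum, map_smul]
  have hspan : Submodule.span R (Set.range x) = ⊤ := by
    refine eq_top_iff.2 fun z _ => ?_
    obtain ⟨v, rfl⟩ := hsurj z
    rw [hΨx]
    exact sum_mem fun j _ => Submodule.smul_mem _ _ (Submodule.subset_span ⟨j, rfl⟩)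
  have hrel : FittingLib.rel (R := R) x = LinearMap.range J.mulVecLin := by
    ext v
    rw [FittingLib.mem_rel, ← hΨx]
    exact hker v
  exact ⟨x, hspan, hrel⟩

theorem ext_fitting (J : Matrix (Fin c) (Fin r) R) (g : (Fin r → R) →ₗ[R] M) (hJ : Function.Injective J.vecMulLinear)
    (hg : Function.Surjective g) (hex : LinearMap.range J.vecMulLinear = LinearMap.ker g) :
    Fitt.ideal R (Abelian.Ext.{u} (ModuleCat.of R M) (ModuleCat.of R R) 1) 0 = minors J := by
  obtain ⟨x, hspan, hrel⟩ := exists_ext_pres J g hJ hg hex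
  exact (FittingLib.ideal_eq_J x hspan 0).trans (J_of_col_span J x hrel)

variable {k : Type u} [Field k] [PerfectField k] {B : Type u} [CommRing B] [Algebra k B]

theorem fitt_eq [IsReduced B] [Nontrivial B] (φ : MvPolynomial (Fin r) k →ₐ[k] B) (hφ : Function.Surjective φ)
    (a : Fin c → MvPolynomial (Fin r) k)
    (ha : RingTheory.Sequence.IsWeaklyRegular (MvPolynomial (Fin r) k) (List.ofFn a))
    (hker : RingHom.ker φ.toRingHom = Ideal.span (Set.range a)) :
    Fitt.ideal B (KaehlerDifferential k B) (r - c) =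
      Fitt.ideal B (Abelian.Ext.{u} (ModuleCat.of B (KaehlerDifferential k B)) (ModuleCat.of B B) 1) 0 := by
  classical
  have hJ := jac_injective φ a hφ ha hker
  have hrel := rel_dX φ a hφ hker
  have hcr : c ≤ r := by
    have := LinearMap.finrank_le_finrank_of_injective (f := (jac φ a).vecMulLinear) hJ
    simpa using this
  rw [FittingLib.ideal_eq_J (dX φ) (span_dX φ hφ), J_of_row_span (jac φ a) (dX φ) hrel hcr,
    ext_fitting (jac φ a) (Fintype.linearCombination B (dX φ)) hJ ?_ hrel.symm]
  rw [← LinearMap.range_eq_top, Fintype.range_linearCombination]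
  exact span_dX φ hφ

end Groth.Agent.CIFitt27
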