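import Groth.Agent.Lib.CIFitt27.CplOmega
import Groth.Agent.Lib.CIFitt27.Main
import Mathlib.RingTheory.PowerSeries.Inverse
import Mathlib.RingTheory.Flat.TorsionFree
import Mathlib.RingTheory.MvPolynomial.Basic

/-!
# Formal families of reduced complete intersections

The Jacobian is injective and presents the completed differentials.
-/

universe u

open MvPolynomial

noncomputable section

namespace Groth.Agent.CIFitt27

/-- Reduction modulo `t` of the completed polynomial ring over a power series ring. -/
def red0 (k : Type u) [Field k] (r : ℕ) : At (R := PowerSeries k) PowerSeries.X r →+* MvPolynomial (Fin r) k :=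
  (Ideal.Quotient.lift (It (r := r) (PowerSeries.X : PowerSeries k))
    (MvPolynomial.map (σ := Fin r) (PowerSeries.constantCoeff (R := k))) fun f hf => by
      obtain ⟨g, rfl⟩ := Ideal.mem_span_singleton'.1 hf
      simp).comp (AdicCompletion.evalOneₐ _).toRingHom

variable {k : Type u} [Field k] {r c : ℕ}

local notation "τA" => algebraMap (PowerSeries k) (At (R := PowerSeries k) PowerSeries.X r) PowerSeries.X

theorem red0_of (f : MvPolynomial (Fin r) (PowerSeries k)) :
    red0 k r (AdicCompletion.of _ _ f) = MvPolynomial.map (PowerSeries.constantCoeff (R := k)) f := rfl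

theorem red0_τ : red0 k r τA = 0 := by
  rw [show τA = AdicCompletion.of (It (r := r) (PowerSeries.X : PowerSeries k)) _
    (C PowerSeries.X : MvPolynomial (Fin r) (PowerSeries k)) from rfl, red0_of]
  simp

theorem red0_surjective : Function.Surjective (red0 k r) := fun g =>
  ⟨AdicCompletion.of _ _ (MvPolynomial.map (PowerSeries.C (R := k)) g), by
    rw [red0_of, MvPolynomial.map_map, show (PowerSeries.constantCoeff (R := k)).comp (PowerSeries.C (R := k)) = RingHom.id k from
      RingHom.ext fun x => PowerSeries.constantCoeff_C x, MvPolynomial.map_id]⟩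

theorem map_cc_eq_zero {f : MvPolynomial (Fin r) (PowerSeries k)}
    (hf : MvPolynomial.map (PowerSeries.constantCoeff (R := k)) f = 0) : ∃ g, f = C PowerSeries.X * g := by
  have : C PowerSeries.X ∣ f := (MvPolynomial.C_dvd_iff_dvd_coeff _ _).2 fun m => by
    rw [PowerSeries.X_dvd_iff]
    have := congrArg (coeff m) hf
    rwa [coeff_map, coeff_zero] at this
  exact this

theorem ker_red0 : RingHom.ker (red0 k r) = Ideal.span {τA} := by
  refine le_antisymm (fun x hx => ?_) ((Ideal.span_singleton_le_iff_mem _).2 red0_τ)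
  obtain ⟨f, y, rfl⟩ := exists_of_add (PowerSeries.X : PowerSeries k) x 1
  rw [pow_one] at hx ⊢
  rw [RingHom.mem_ker, map_add, map_mul, red0_τ, zero_mul, add_zero, red0_of] at hx
  obtain ⟨g, rfl⟩ := map_cc_eq_zero hx
  refine add_mem ?_ (Ideal.mul_mem_right _ _ (Ideal.mem_span_singleton_self _))
  refine Ideal.mem_span_singleton'.2 ⟨AdicCompletion.of _ _ g, ?_⟩
  rw [mul_comm]
  rfl

theorem red0_dhat (j : Fin r) (f : At (R := PowerSeries k) PowerSeries.X r) :
    red0 k r (dhat PowerSeries.X j f) = pderiv j (red0 k r f) := by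
  obtain ⟨g, y, rfl⟩ := exists_of_add (PowerSeries.X : PowerSeries k) f 1
  simp only [pow_one, map_add, dhat_of, Derivation.leibniz, Derivation.map_algebraMap, smul_zero, add_zero,
    smul_eq_mul, map_mul, mul_zero, zero_mul, map_zero, red0_τ, red0_of, MvPolynomial.pderiv_map]

variable {B : Type u} [CommRing B] [Algebra (PowerSeries k) B]
  (ψ : At (R := PowerSeries k) PowerSeries.X r →ₐ[PowerSeries k] B)
  (a : Fin c → At (R := PowerSeries k) PowerSeries.X r)

local notation "τB" => algebraMap (PowerSeries k) B PowerSeries.X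

theorem exists_special (hψ : Function.Surjective ψ) (hker : RingHom.ker ψ.toRingHom = Ideal.span (Set.range a)) :
    ∃ (_ : Algebra k (B ⧸ Ideal.span {τB})) (φ : MvPolynomial (Fin r) k →ₐ[k] B ⧸ Ideal.span {τB}),
      Function.Surjective φ ∧ RingHom.ker φ.toRingHom = Ideal.span (Set.range fun i => red0 k r (a i)) ∧
      ∀ f, Ideal.Quotient.mk _ (ψ f) = φ (red0 k r f) := by
  let q : B →+* B ⧸ Ideal.span {τB} := Ideal.Quotient.mk _
  letI : Algebra k (B ⧸ Ideal.span {τB}) :=
    (q.comp ((algebraMap (PowerSeries k) B).comp (PowerSeries.C (R := k)))).toAlgebra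
  let φ : MvPolynomial (Fin r) k →ₐ[k] B ⧸ Ideal.span {τB} :=
    MvPolynomial.aeval fun j => q (ψ (AdicCompletion.of _ _ (X j)))
  have hq : q τB = 0 := Ideal.Quotient.eq_zero_iff_mem.2 (Ideal.mem_span_singleton_self _)
  have hof : ∀ g : MvPolynomial (Fin r) (PowerSeries k),
      q (ψ (AdicCompletion.of _ _ g)) = φ (MvPolynomial.map (PowerSeries.constantCoeff (R := k)) g) := fun g => by
    induction g using MvPolynomial.induction_on with
    | C s =>
      rw [show AdicCompletion.of (It (r := r) (PowerSeries.X : PowerSeries k)) _ (C s : MvPolynomial (Fin r) (PowerSeries k)) =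
        algebraMap (PowerSeries k) (At (R := PowerSeries k) PowerSeries.X r) s from rfl, AlgHom.commutes, map_C]
      simp only [φ, MvPolynomial.aeval_C]
      conv_lhs => rw [PowerSeries.eq_X_mul_shift_add_const s, map_add, map_mul, map_add, map_mul, hq, zero_mul, zero_add]
      rfl
    | add p p' hp hp' => simp only [map_add, hp, hp']
    | mul_X p i hp =>
      rw [show AdicCompletion.of (It (r := r) (PowerSeries.X : PowerSeries k)) _ (p * X i) =
        (AdicCompletion.of (It (r := r) (PowerSeries.X : PowerSeries k)) _ p : At (R := PowerSeries k) PowerSeries.X r) *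
          AdicCompletion.of _ _ (X i) from rfl, map_mul, map_mul, hp, map_mul, map_mul, map_X]
      simp only [φ, MvPolynomial.aeval_X]
  have hcomm : ∀ f, q (ψ f) = φ (red0 k r f) := fun f => by
    obtain ⟨g, y, rfl⟩ := exists_of_add (PowerSeries.X : PowerSeries k) f 1
    simp only [pow_one, map_add, map_mul, red0_τ, AlgHom.commutes, hq, zero_mul, add_zero, hof, red0_of]
  refine ⟨inferInstance, φ, fun x => ?_, le_antisymm (fun g hg => ?_) ?_, hcomm⟩
  · obtain ⟨b, rfl⟩ := Ideal.Quotient.mk_surjective x
    obtain ⟨f, rfl⟩ := hψ b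
    exact ⟨_, (hcomm f).symm⟩
  · obtain ⟨f, rfl⟩ := red0_surjective g
    have hf : q (ψ f) = 0 := (hcomm f).trans hg
    obtain ⟨b, hb⟩ := Ideal.mem_span_singleton'.1 (Ideal.Quotient.eq_zero_iff_mem.1 hf)
    obtain ⟨y, rfl⟩ := hψ b
    have hmem : f - y * τA ∈ Ideal.span (Set.range a) := hker.le (by
      show ψ (f - y * τA) = 0
      rw [map_sub, map_mul, AlgHom.commutes, hb, sub_self])
    have := Ideal.mem_map_of_mem (red0 k r) hmem
    rw [map_sub, map_mul, red0_τ, mul_zero, sub_zero, Ideal.map_span, ← Set.range_comp] at this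
    exact this
  · rw [Ideal.span_le]
    rintro _ ⟨i, rfl⟩
    show φ (red0 k r (a i)) = 0
    rw [← hcomm, show ψ (a i) = 0 from RingHom.mem_ker.1 (hker.ge (Ideal.subset_span ⟨i, rfl⟩)), map_zero]

theorem regular_red0
    (hreg : RingTheory.Sequence.IsRegular (At (R := PowerSeries k) PowerSeries.X r ⧸ Ideal.span {τA})
      ((List.ofFn a).map (Ideal.Quotient.mk (Ideal.span {τA})))) :
    RingTheory.Sequence.IsRegular (MvPolynomial (Fin r) k) (List.ofFn fun i => red0 k r (a i)) := by
  let e := (Ideal.quotEquivOfEq (ker_red0 (k := k) (r := r)).symm).trans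
    (RingHom.quotientKerEquivOfSurjective (red0_surjective (k := k) (r := r)))
  have he : ∀ x, e (Ideal.Quotient.mk _ x) = red0 k r x := fun x => rfl
  refine (e.toAddEquiv.isRegular_congr ?_).1 hreg
  rw [List.map_ofFn, List.forall₂_iff_get]
  refine ⟨by simp, fun i h₁ h₂ x => ?_⟩
  simp only [List.get_ofFn, Function.comp_apply, smul_eq_mul]
  exact (map_mul e _ _).trans (congrArg (· * _) (he _))

theorem cpl_main [IsAlgClosed k] [IsNoetherianRing B] [IsAdicComplete (Ideal.span {τB}) B]
    [Module.Flat (PowerSeries k) B]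
    (hψ : Function.Surjective ψ) (hker : RingHom.ker ψ.toRingHom = Ideal.span (Set.range a))
    (hreg : RingTheory.Sequence.IsRegular (At (R := PowerSeries k) PowerSeries.X r ⧸ Ideal.span {τA})
      ((List.ofFn a).map (Ideal.Quotient.mk (Ideal.span {τA}))))
    [IsReduced (B ⧸ Ideal.span {τB})] :
    c ≤ r ∧ Function.Injective (jHat PowerSeries.X a ψ).vecMulLinear := by
  obtain ⟨_, φ, hφ, hkerφ, hcomm⟩ := exists_special ψ a hψ hker
  let q : B →+* B ⧸ Ideal.span {τB} := Ideal.Quotient.mk _
  have hJ : ∀ i j, q (jHat PowerSeries.X a ψ i j) = jac φ (fun i => red0 k r (a i)) i j := fun i j => by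
    rw [jHat, hcomm, red0_dhat]
    rfl
  have hr0 := regular_red0 a hreg
  have hinj := jac_injective φ (fun i => red0 k r (a i)) hφ hr0.toIsWeaklyRegular hkerφ
  have hτ : IsSMulRegular B (PowerSeries.X : PowerSeries k) :=
    Module.Flat.isSMulRegular_of_isRegular (IsRegular.of_ne_zero PowerSeries.X_ne_zero)
  have hstep : ∀ (n : ℕ) (v : Fin c → B), Matrix.vecMul v (jHat PowerSeries.X a ψ) = 0 →
      ∀ i, v i ∈ Ideal.span {τB} ^ n := fun n => by
    induction n with
    | zero => simp
    | succ n ih =>
      intro v hv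
      have h1 : (fun i => q (v i)) = 0 := hinj (by
        rw [map_zero]
        funext j
        have := congrArg q (congrFun hv j)
        simpa [Matrix.vecMul, dotProduct, map_sum, map_mul, hJ] using this)
      choose w hw using fun i => Ideal.mem_span_singleton'.1 (Ideal.Quotient.eq_zero_iff_mem.1 (congrFun h1 i))
      have h2 : Matrix.vecMul w (jHat PowerSeries.X a ψ) = 0 := funext fun j => hτ (by
        show PowerSeries.X (R := k) • Matrix.vecMul w (jHat PowerSeries.X a ψ) j = PowerSeries.X (R := k) • (0 : B)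
        rw [smul_zero, Algebra.smul_def]
        refine Eq.trans ?_ (congrFun hv j)
        simp only [Matrix.vecMul, dotProduct, Finset.mul_sum, ← hw]
        exact Finset.sum_congr rfl fun i _ => by ring)
      intro i
      rw [← hw i, pow_succ]
      exact Ideal.mul_mem_mul (ih w h2 i) (Ideal.mem_span_singleton_self _)
  refine ⟨?_, (injective_iff_map_eq_zero _).2 fun v hv => funext fun i => ?_⟩
  · have : Nontrivial (B ⧸ Ideal.span {τB}) := by
      refine not_subsingleton_iff_nontrivial.1 fun hB => hr0.top_ne_smul ?_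
      have h1 : (1 : MvPolynomial (Fin r) k) ∈ RingHom.ker φ.toRingHom := RingHom.mem_ker.2 (Subsingleton.elim _ _)
      have h2 : Ideal.ofList (List.ofFn fun i => red0 k r (a i)) = ⊤ := by
        rw [Ideal.eq_top_iff_one, Ideal.ofList]
        rw [hkerφ] at h1
        refine Ideal.span_mono ?_ h1
        rintro _ ⟨j, rfl⟩
        exact List.mem_ofFn.2 ⟨j, rfl⟩
      rw [h2, Submodule.top_smul]
    simpa using LinearMap.finrank_le_finrank_of_injective hinj
  · refine IsHausdorff.haus' (I := Ideal.span {τB}) (v i) fun n => ?_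
    rw [SModEq.zero, smul_eq_mul, Ideal.mul_top]
    exact hstep n v hv i

theorem cpl_fitt [IsAlgClosed k] [IsNoetherianRing B] [IsAdicComplete (Ideal.span {τB}) B]
    [Module.Flat (PowerSeries k) B]
    (hψ : Function.Surjective ψ) (hker : RingHom.ker ψ.toRingHom = Ideal.span (Set.range a))
    (hreg : RingTheory.Sequence.IsRegular (At (R := PowerSeries k) PowerSeries.X r ⧸ Ideal.span {τA})
      ((List.ofFn a).map (Ideal.Quotient.mk (Ideal.span {τA}))))
    [IsReduced (B ⧸ Ideal.span {τB})] :
    Fitt.ideal B (OmegaHat (R := PowerSeries k) PowerSeries.X B) (r - c) =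
      Fitt.ideal B (CategoryTheory.Abelian.Ext.{u} (ModuleCat.of B (OmegaHat (R := PowerSeries k) PowerSeries.X B))
        (ModuleCat.of B B) 1) 0 := by
  obtain ⟨hspan, hrel⟩ := exists_cpl_pres PowerSeries.X a ψ hψ hker
  obtain ⟨hcr, hJ⟩ := cpl_main ψ a hψ hker hreg
  rw [FittingLib.ideal_eq_J _ hspan, J_of_row_span _ _ hrel hcr,
    ext_fitting _ (Fintype.linearCombination B (xHat PowerSeries.X ψ)) hJ ?_ hrel.symm]
  rw [← LinearMap.range_eq_top, Fintype.range_linearCombination]
  exact hspan

end Groth.Agent.CIFitt27
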