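import Groth.Agent.Lib.CIFitt27.Jac
import Groth.Agent.Lib.Fitting.More
import Mathlib.RingTheory.Kaehler.Polynomial

/-!
# Differentials of a quotient of affine space, and minors of the Jacobian
-/

universe u

open MvPolynomial

noncomputable section

namespace Groth.Agent.CIFitt27

variable {k : Type u} [CommRing k] {r c : ℕ} {B : Type u} [CommRing B] [Algebra k B]
  (φ : MvPolynomial (Fin r) k →ₐ[k] B) (a : Fin c → MvPolynomial (Fin r) k)

/-- The coordinate differentials. -/
def dX (j : Fin r) : KaehlerDifferential k B := KaehlerDifferential.D k B (φ (X j))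

theorem D_eq_sum (f : MvPolynomial (Fin r) k) :
    KaehlerDifferential.D k B (φ f) = ∑ j, φ (pderiv j f) • dX φ j := by
  classical
  induction f using MvPolynomial.induction_on with
  | C t =>
    rw [← MvPolynomial.algebraMap_eq, AlgHom.commutes, Derivation.map_algebraMap]
    simp
  | add p q hp hq => simp only [map_add, hp, hq, add_smul, Finset.sum_add_distrib]
  | mul_X p i hp =>
    simp only [Derivation.leibniz, map_mul, map_add, smul_eq_mul, pderiv_X, hp, add_smul, Finset.sum_add_distrib,
      Finset.smul_sum, mul_smul]
    congr 1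
    rw [Finset.sum_eq_single i (fun j _ hj => by rw [Pi.single_eq_of_ne hj.symm, map_zero, zero_smul, smul_zero])
      (by simp), Pi.single_eq_same, map_one, one_smul]
    rfl

theorem span_dX (hφ : Function.Surjective φ) : Submodule.span B (Set.range (dX φ)) = ⊤ := by
  rw [eq_top_iff, ← KaehlerDifferential.span_range_derivation k B, Submodule.span_le]
  rintro _ ⟨b, rfl⟩
  obtain ⟨f, rfl⟩ := hφ b
  rw [D_eq_sum]
  exact sum_mem fun j _ => Submodule.smul_mem _ _ (Submodule.subset_span ⟨j, rfl⟩)

theorem rel_dX (hφ : Function.Surjective φ)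
    (hker : RingHom.ker φ.toRingHom = Ideal.span (Set.range a)) :
    FittingLib.rel (R := B) (dX φ) = LinearMap.range (jac φ a).vecMulLinear := by
  classical
  let rows := LinearMap.range (jac φ a).vecMulLinear
  have hφa : ∀ i, φ (a i) = 0 := fun i => RingHom.mem_ker.1 (hker.ge (Ideal.subset_span ⟨i, rfl⟩))
  refine le_antisymm (fun v hv => ?_) ?_
  · let grad : MvPolynomial (Fin r) k → (Fin r → B) := fun f j => φ (pderiv j f)
    have hwd : ∀ f, φ f = 0 → grad f ∈ rows := fun f hf => by
      obtain ⟨g, rfl⟩ := Ideal.mem_span_range_iff_exists_fun.1 (hker.le (show φ.toRingHom f = 0 from hf))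
      refine ⟨fun i => φ (g i), funext fun j => ?_⟩
      simp [grad, jac, Matrix.vecMul, dotProduct, hφa, Derivation.leibniz]
    have hgadd : ∀ f g, grad (f + g) = grad f + grad g := fun f g => funext fun j => by simp [grad]
    have hgsub : ∀ f g, φ f = φ g → rows.mkQ (grad f) = rows.mkQ (grad g) := fun f g h => by
      refine (Submodule.Quotient.eq _).2 ?_
      have : grad f - grad g = grad (f - g) := funext fun j => by simp [grad]
      rw [this]
      exact hwd _ (by rw [map_sub, h, sub_self])
    choose lift hlift using hφ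
    let δ : B → (Fin r → B) ⧸ rows := fun b => rows.mkQ (grad (lift b))
    have hδ : ∀ f, δ (φ f) = rows.mkQ (grad f) := fun f => hgsub _ _ (hlift _)
    let lin : B →ₗ[k] (Fin r → B) ⧸ rows :=
      { toFun := δ
        map_add' := fun x y => by
          rw [show δ (x + y) = δ (φ (lift x + lift y)) by rw [map_add, hlift, hlift], hδ, hgadd, map_add]
        map_smul' := fun t x => by
          rw [show δ (t • x) = δ (φ (t • lift x)) by rw [map_smul, hlift], hδ, RingHom.id_apply]
          have : grad (t • lift x) = t • grad (lift x) := funext fun j => by simp [grad]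
          rw [this]
          exact LinearMap.map_smul_of_tower _ _ _ }
    let der : Derivation k B ((Fin r → B) ⧸ rows) := Derivation.mk' lin fun x y => by
      show δ (x * y) = x • δ y + y • δ x
      rw [show δ (x * y) = δ (φ (lift x * lift y)) by rw [map_mul, hlift, hlift], hδ, ← map_smul, ← map_smul, ← map_add]
      refine congrArg rows.mkQ (funext fun j => ?_)
      simp [grad, Derivation.leibniz, hlift]
    have hL : ∀ j, der.liftKaehlerDifferential (dX φ j) = rows.mkQ (Pi.single j 1) := fun j => by
      rw [dX, Derivation.liftKaehlerDifferential_comp_D]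
      refine (hδ (X j)).trans (congrArg rows.mkQ (funext fun l => ?_))
      simp [grad, pderiv_X, Pi.single_apply, eq_comm]
    have h0 := congrArg der.liftKaehlerDifferential (FittingLib.mem_rel.1 hv)
    simp only [map_sum, map_smul, map_zero, hL] at h0
    rw [← map_zero rows.mkQ] at h0
    have h1 : rows.mkQ v = 0 := by
      rw [pi_eq_sum_univ' v]
      simpa [map_sum] using h0
    exact (Submodule.Quotient.mk_eq_zero _).1 h1
  · rintro _ ⟨w, rfl⟩
    rw [FittingLib.mem_rel]
    simp only [Matrix.vecMulLinear_apply, Matrix.vecMul, dotProduct, Finset.sum_smul, mul_smul]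
    rw [Finset.sum_comm]
    refine Finset.sum_eq_zero fun i _ => ?_
    rw [← Finset.smul_sum, show (∑ j, jac φ a i j • dX φ j) = KaehlerDifferential.D k B (φ (a i)) from
      (D_eq_sum φ (a i)).symm, hφa, map_zero, smul_zero]

/-- The ideal of maximal minors. -/
def minors {R : Type u} [CommRing R] (J : Matrix (Fin c) (Fin r) R) : Ideal R :=
  Ideal.span {d | ∃ f : Fin c → Fin r, d = (J.submatrix id f).det}

theorem J_of_row_span {R M : Type u} [CommRing R] [AddCommGroup M] [Module R M] (J : Matrix (Fin c) (Fin r) R)
    (x : Fin r → M) (hrel : FittingLib.rel (R := R) x = LinearMap.range J.vecMulLinear) (hcr : c ≤ r) :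
    FittingLib.J (R := R) x (r - c) = minors J := by
  classical
  rw [FittingLib.J_eq_span_minors]
  have hn : r - (r - c) = c := by omega
  let τ := finCongr hn.symm
  refine le_antisymm (Ideal.span_le.2 ?_) (Ideal.span_le.2 ?_)
  · rintro _ ⟨z, e, hz, rfl⟩
    have hw : ∀ b, ∃ w : Fin c → R, Matrix.vecMul w J = z (τ b) := fun b =>
      hrel.le (FittingLib.mem_rel.2 (hz (τ b)))
    choose W hW using hw
    have : ((Matrix.of fun p q => z q (e p)).submatrix τ τ) =
        ((Matrix.of W) * J.submatrix id (e ∘ τ)).transpose := by
      ext p q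
      simp only [Matrix.submatrix_apply, Matrix.of_apply, Matrix.transpose_apply, Matrix.mul_apply, ← hW q]
      rfl
    rw [← Matrix.det_submatrix_equiv_self τ, this, Matrix.det_transpose, Matrix.det_mul]
    exact Ideal.mul_mem_left _ _ (Ideal.subset_span ⟨_, rfl⟩)
  · rintro _ ⟨f, rfl⟩
    refine Ideal.subset_span ⟨fun b => J (τ.symm b), f ∘ τ.symm, fun b => ?_, ?_⟩
    · refine FittingLib.mem_rel.1 (hrel.ge ⟨Pi.single (τ.symm b) 1, ?_⟩)
      ext j
      simp [Matrix.vecMul, dotProduct, Pi.single_apply]
    · rw [← Matrix.det_submatrix_equiv_self τ, ← Matrix.det_transpose]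
      refine congrArg Matrix.det ?_
      ext p q
      simp [τ]

theorem J_of_col_span {R M : Type u} [CommRing R] [AddCommGroup M] [Module R M] (J : Matrix (Fin c) (Fin r) R)
    (x : Fin c → M) (hrel : FittingLib.rel (R := R) x = LinearMap.range J.mulVecLin) :
    FittingLib.J (R := R) x 0 = minors J := by
  classical
  rw [FittingLib.J_eq_span_minors]
  refine le_antisymm (Ideal.span_le.2 ?_) (Ideal.span_le.2 ?_)
  · rintro _ ⟨z, e, hz, rfl⟩
    rw [show (Matrix.of fun p q => z q (e p)) = (Matrix.of fun q p => z q (e p)).transpose from rfl, Matrix.det_transpose]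
    refine FittingLib.det_mem_of_rows_mem_span (fun _ => Set.range fun j : Fin r => fun p => J (e p) j) _
      (fun Bm hB => ?_) _ fun q => ?_
    · choose f hf using hB
      have : Bm = (J.submatrix e f).transpose := by
        ext q p
        exact (congrFun (hf q) p).symm
      rw [this, Matrix.det_transpose]
      by_cases he : Function.Bijective e
      · let σ : Equiv.Perm (Fin c) := Equiv.ofBijective e he
        rw [show J.submatrix e f = (J.submatrix id f).submatrix σ id from rfl, Matrix.det_permute]
        exact Ideal.mul_mem_left _ _ (Ideal.subset_span ⟨f, rfl⟩)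
      · have he' : ¬ Function.Injective e := fun h => he (Finite.injective_iff_bijective.1 h)
        simp only [Function.Injective, not_forall] at he'
        obtain ⟨p, p', hpp, hne⟩ := he'
        rw [Matrix.det_zero_of_row_eq hne (funext fun j => by simp [hpp])]
        exact Submodule.zero_mem _
    · obtain ⟨w, hw⟩ := hrel.le (FittingLib.mem_rel.2 (hz q))
      show (fun p => z q (e p)) ∈ _
      have : (fun p => z q (e p)) = ∑ j, w j • fun p => J (e p) j := by
        ext p
        rw [← hw]
        simp [Matrix.mulVec, dotProduct, mul_comm]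
      rw [this]
      exact sum_mem fun j _ => Submodule.smul_mem _ _ (Submodule.subset_span ⟨j, rfl⟩)
  · rintro _ ⟨f, rfl⟩
    refine Ideal.subset_span ⟨fun q p => J p (f q), id, fun q => ?_, rfl⟩
    refine FittingLib.mem_rel.1 (hrel.ge ⟨Pi.single (f q) 1, ?_⟩)
    ext p
    simp

end Groth.Agent.CIFitt27
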