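import Groth.Agent.Lib.CIFitt27.CplPartial
import Groth.Agent.Lib.CIFitt27.Pres
import Groth.Agent.Lib.Compl.Complete
import Mathlib.RingTheory.AdicCompletion.Functoriality

/-!
# Completed differentials of a quotient of a completed polynomial ring
-/

universe u

open MvPolynomial

noncomputable section

namespace Groth.Agent.CIFitt27

variable {R : Type u} [CommRing R] (t : R) {r c : ℕ} {B : Type u} [CommRing B] [Algebra R B]
  (a : Fin c → At t r) (ψ : At t r →ₐ[R] B)

/-- The completed differentials. -/
abbrev OmegaHat (B : Type u) [CommRing B] [Algebra R B] : Type u :=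
  AdicCompletion (Ideal.span {algebraMap R B t}) (KaehlerDifferential R B)

/-- `D` followed by completion, on the completed polynomial ring. -/
def DHat (f : At t r) : OmegaHat t B := AdicCompletion.of _ _ (KaehlerDifferential.D R B (ψ f))

/-- The coordinate differentials. -/
def xHat (j : Fin r) : OmegaHat t B := DHat t ψ (AdicCompletion.of _ _ (X j))

/-- The Jacobian. -/
def jHat : Matrix (Fin c) (Fin r) B := fun i j => ψ (dhat t j (a i))

omit c a in
theorem eval_pow_smul (n : ℕ) (y : OmegaHat t B) :
    AdicCompletion.eval (Ideal.span {algebraMap R B t}) (KaehlerDifferential R B) n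
      (algebraMap R B (t ^ n) • y) = 0 :=
  LinearMap.mem_ker.1 ((AdicCompletion.pow_smul_top_le_ker_eval (I := Ideal.span {algebraMap R B t})
      (M := KaehlerDifferential R B) (n := n)) (Submodule.smul_mem_smul
    (show algebraMap R B (t ^ n) ∈ Ideal.span {algebraMap R B t} ^ n by
      rw [map_pow]; exact Ideal.pow_mem_pow (Ideal.mem_span_singleton_self _) n) Submodule.mem_top))

theorem DHat_eq_sum (f : At t r) : DHat t ψ f = ∑ j, ψ (dhat t j f) • xHat t ψ j := by
  classical
  let E : At t r → OmegaHat t B := fun f => DHat t ψ f - ∑ j, ψ (dhat t j f) • xHat t ψ j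
  have hadd : ∀ f g, E (f + g) = E f + E g := fun f g => by
    simp only [E, DHat, map_add, add_smul, Finset.sum_add_distrib]
    abel
  have hmul : ∀ f g, E (f * g) = ψ f • E g + ψ g • E f := fun f g => by
    simp only [E, DHat, Derivation.leibniz, map_mul, map_add, smul_eq_mul, add_smul, Finset.sum_add_distrib,
      smul_sub, Finset.smul_sum, mul_smul, map_smul]
    abel
  have hC : ∀ s : R, E (algebraMap R (At t r) s) = 0 := fun s => by
    simp [E, DHat]
  have hX : ∀ i, E (AdicCompletion.of _ _ (X i)) = 0 := fun i => by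
    simp only [E]
    rw [Finset.sum_eq_single i (fun j _ hj => by
        rw [dhat_of, pderiv_X, Pi.single_eq_of_ne hj.symm, map_zero, map_zero, zero_smul]) (by simp),
      dhat_of, pderiv_X, Pi.single_eq_same,
      show AdicCompletion.of (It (r := r) t) _ (1 : MvPolynomial (Fin r) R) = (1 : At t r) from rfl, map_one, one_smul]
    exact sub_self _
  have hof : ∀ g : MvPolynomial (Fin r) R, E (AdicCompletion.of _ _ g) = 0 := fun g => by
    induction g using MvPolynomial.induction_on with
    | C s =>
      rw [show AdicCompletion.of (It (r := r) t) _ (C s : MvPolynomial (Fin r) R) = algebraMap R (At t r) s from rfl, hC]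
    | add p q hp hq => rw [map_add, hadd, hp, hq, add_zero]
    | mul_X p i hp =>
      rw [show AdicCompletion.of (It (r := r) t) _ (p * X i) =
        (AdicCompletion.of (It (r := r) t) _ p : At t r) * AdicCompletion.of _ _ (X i) from rfl, hmul, hp, hX,
        smul_zero, smul_zero, add_zero]
  have h0 : E f = 0 := AdicCompletion.ext fun n => by
    obtain ⟨g, y, hgy⟩ := exists_of_add t f n
    rw [hgy, hadd, hof, zero_add, hmul, hC, smul_zero, add_zero, AlgHom.commutes]
    exact eval_pow_smul t n _
  exact sub_eq_zero.1 h0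

theorem exists_cpl_pres [IsNoetherianRing B] [IsAdicComplete (Ideal.span {algebraMap R B t}) B]
    (hψ : Function.Surjective ψ) (hker : RingHom.ker ψ.toRingHom = Ideal.span (Set.range a)) :
    Submodule.span B (Set.range (xHat t ψ)) = ⊤ ∧
      FittingLib.rel (R := B) (xHat t ψ) = LinearMap.range (jHat t a ψ).vecMulLinear := by
  classical
  let rows := LinearMap.range (jHat t a ψ).vecMulLinear
  let Iτ : Ideal B := Ideal.span {algebraMap R B t}
  have hψa : ∀ i, ψ (a i) = 0 := fun i => RingHom.mem_ker.1 (hker.ge (Ideal.subset_span ⟨i, rfl⟩))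
  let grad : At t r → (Fin r → B) := fun f j => ψ (dhat t j f)
  have hwd : ∀ f, ψ f = 0 → grad f ∈ rows := fun f hf => by
    obtain ⟨g, rfl⟩ := Ideal.mem_span_range_iff_exists_fun.1 (hker.le (show ψ.toRingHom f = 0 from hf))
    refine ⟨fun i => ψ (g i), funext fun j => ?_⟩
    simp [grad, jHat, Matrix.vecMul, dotProduct, hψa, Derivation.leibniz]
  have hgadd : ∀ f g, grad (f + g) = grad f + grad g := fun f g => funext fun j => by simp [grad]
  have hgsub : ∀ f g, ψ f = ψ g → rows.mkQ (grad f) = rows.mkQ (grad g) := fun f g h => by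
    refine (Submodule.Quotient.eq _).2 ?_
    have : grad f - grad g = grad (f - g) := funext fun j => by simp [grad]
    rw [this]
    exact hwd _ (by rw [map_sub, h, sub_self])
  choose lift hlift using hψ
  let δ : B → (Fin r → B) ⧸ rows := fun b => rows.mkQ (grad (lift b))
  have hδ : ∀ f, δ (ψ f) = rows.mkQ (grad f) := fun f => hgsub _ _ (hlift _)
  let lin : B →ₗ[R] (Fin r → B) ⧸ rows :=
    { toFun := δ
      map_add' := fun x y => by
        rw [show δ (x + y) = δ (ψ (lift x + lift y)) by rw [map_add, hlift, hlift], hδ, hgadd, map_add]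
      map_smul' := fun s x => by
        rw [show δ (s • x) = δ (ψ (s • lift x)) by rw [map_smul, hlift], hδ, RingHom.id_apply]
        have : grad (s • lift x) = s • grad (lift x) := funext fun j => by simp [grad]
        rw [this]
        exact LinearMap.map_smul_of_tower _ _ _ }
  let der : Derivation R B ((Fin r → B) ⧸ rows) := Derivation.mk' lin fun x y => by
    show δ (x * y) = x • δ y + y • δ x
    rw [show δ (x * y) = δ (ψ (lift x * lift y)) by rw [map_mul, hlift, hlift], hδ, ← map_smul, ← map_smul, ← map_add]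
    refine congrArg rows.mkQ (funext fun j => ?_)
    simp [grad, Derivation.leibniz, hlift]
  haveI : IsAdicComplete Iτ ((Fin r → B) ⧸ rows) := Compl.isAdicComplete_of_finite Iτ _
  let ρ := AdicCompletion.ofLinearEquiv Iτ ((Fin r → B) ⧸ rows)
  let L : OmegaHat t B →ₗ[B] (Fin r → B) ⧸ rows :=
    ρ.symm.toLinearMap ∘ₗ (AdicCompletion.map Iτ der.liftKaehlerDifferential).restrictScalars B
  have hLof : ∀ ω, L (AdicCompletion.of _ _ ω) = der.liftKaehlerDifferential ω := fun ω =>
    (congrArg ρ.symm (AdicCompletion.map_of Iτ der.liftKaehlerDifferential ω)).trans (ρ.symm_apply_apply _)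
  have hLx : ∀ j, L (xHat t ψ j) = rows.mkQ (Pi.single j 1) := fun j => by
    rw [xHat, DHat, hLof, Derivation.liftKaehlerDifferential_comp_D]
    refine (hδ _).trans (congrArg rows.mkQ (funext fun l => ?_))
    simp only [grad, dhat_of, pderiv_X]
    rcases eq_or_ne j l with rfl | hne
    · rw [Pi.single_eq_same, Pi.single_eq_same]; exact map_one ψ
    · rw [Pi.single_eq_of_ne hne, Pi.single_eq_of_ne hne.symm, map_zero, map_zero]
  have hrows : rows ≤ FittingLib.rel (R := B) (xHat t ψ) := by
    rintro _ ⟨w, rfl⟩
    rw [FittingLib.mem_rel]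
    simp only [Matrix.vecMulLinear_apply, Matrix.vecMul, dotProduct, Finset.sum_smul, mul_smul]
    rw [Finset.sum_comm]
    refine Finset.sum_eq_zero fun i _ => ?_
    rw [← Finset.smul_sum, show (∑ j, jHat t a ψ i j • xHat t ψ j) = DHat t ψ (a i) from
      (DHat_eq_sum t ψ (a i)).symm, DHat, hψa, map_zero, map_zero, smul_zero]
  let π : (Fin r → B) ⧸ rows →ₗ[B] OmegaHat t B :=
    rows.liftQ (Fintype.linearCombination B (xHat t ψ)) hrows
  let G : OmegaHat t B →ₗ[B] OmegaHat t B := π ∘ₗ L - LinearMap.id
  have hG0 : ∀ ω, G (AdicCompletion.of _ _ ω) = 0 := by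
    have h : G ∘ₗ AdicCompletion.of Iτ (KaehlerDifferential R B) = 0 := by
      apply LinearMap.ext_on (KaehlerDifferential.span_range_derivation R B)
      rintro _ ⟨b, rfl⟩
      show π (L (AdicCompletion.of _ _ (KaehlerDifferential.D R B b))) - _ = 0
      rw [hLof, Derivation.liftKaehlerDifferential_comp_D, sub_eq_zero]
      refine Eq.trans ?_ (Eq.trans (DHat_eq_sum t ψ (lift b)).symm (by rw [DHat, hlift]; rfl))
      show Fintype.linearCombination B (xHat t ψ) (grad (lift b)) = _
      rw [Fintype.linearCombination_apply]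
    exact fun ω => LinearMap.congr_fun h ω
  have hG : ∀ x, G x = 0 := fun x => AdicCompletion.ext fun n => by
    obtain ⟨ω, hω⟩ := Submodule.Quotient.mk_surjective _ (x.val n)
    have h : x - AdicCompletion.of _ _ ω ∈ (AdicCompletion.eval Iτ _ n).ker := by
      rw [LinearMap.mem_ker, map_sub, sub_eq_zero]
      exact hω.symm
    rw [← AdicCompletion.pow_smul_top_eq_ker_eval (⟨{algebraMap R B t}, by simp [Iτ]⟩ : Iτ.FG),
      Ideal.span_singleton_pow, ← map_pow, Submodule.ideal_span_singleton_smul,
      Submodule.mem_smul_pointwise_iff_exists] at h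
    obtain ⟨y, -, hy⟩ := h
    rw [← add_sub_cancel (AdicCompletion.of Iτ (KaehlerDifferential R B) ω) x, ← hy, map_add, hG0, zero_add, map_smul]
    exact eval_pow_smul t n _
  refine ⟨eq_top_iff.2 fun x _ => ?_, le_antisymm (fun v hv => ?_) hrows⟩
  · obtain ⟨v, hv⟩ := rows.mkQ_surjective (L x)
    have hx : π (L x) = x := sub_eq_zero.1 (hG x)
    rw [← hx, ← hv]
    change Fintype.linearCombination B (xHat t ψ) v ∈ _
    rw [Fintype.linearCombination_apply]
    exact sum_mem fun j _ => Submodule.smul_mem _ _ (Submodule.subset_span ⟨j, rfl⟩)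
  · have h0 := congrArg L (FittingLib.mem_rel.1 hv)
    simp only [map_sum, map_smul, map_zero, hLx] at h0
    have h1 : rows.mkQ v = 0 := by
      rw [pi_eq_sum_univ' v]
      simpa [map_sum] using h0
    exact (Submodule.Quotient.mk_eq_zero _).1 h1

end Groth.Agent.CIFitt27
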