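import Mathlib.RingTheory.AdicCompletion.Algebra
import Mathlib.RingTheory.AdicCompletion.Completeness
import Mathlib.Algebra.MvPolynomial.PDeriv
import Mathlib.RingTheory.Derivation.Basic

/-!
# Partial derivatives on the completion of a polynomial ring along a constant
-/

universe u

open MvPolynomial

noncomputable section

namespace Groth.Agent.CIFitt27

variable {R : Type u} [CommRing R] {r : ℕ} (t : R)

/-- The ideal of the constant. -/
abbrev It : Ideal (MvPolynomial (Fin r) R) := Ideal.span {MvPolynomial.C (σ := Fin r) t}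

/-- The completed polynomial ring. -/
abbrev At (r : ℕ) : Type u := AdicCompletion (It (r := r) t) (MvPolynomial (Fin r) R)

theorem mem_It_pow {n : ℕ} {f : MvPolynomial (Fin r) R} :
    f ∈ (It (r := r) t ^ n • ⊤ : Submodule (MvPolynomial (Fin r) R) (MvPolynomial (Fin r) R)) ↔
      ∃ g, f = C (t ^ n) * g := by
  rw [smul_eq_mul, Ideal.mul_top, Ideal.span_singleton_pow, Ideal.mem_span_singleton', ← map_pow]
  exact ⟨fun ⟨g, hg⟩ => ⟨g, by rw [← hg, mul_comm]⟩, fun ⟨g, hg⟩ => ⟨g, by rw [hg, mul_comm]⟩⟩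

/-- `∂ⱼ` at a finite level. -/
def dq (j : Fin r) (n : ℕ)
    (x : MvPolynomial (Fin r) R ⧸ (It (r := r) t ^ n • ⊤ : Submodule (MvPolynomial (Fin r) R) (MvPolynomial (Fin r) R))) :
    MvPolynomial (Fin r) R ⧸ (It (r := r) t ^ n • ⊤ : Submodule (MvPolynomial (Fin r) R) (MvPolynomial (Fin r) R)) :=
  Submodule.Quotient.mk (pderiv j (Quotient.out x))

theorem dq_mk (j : Fin r) (n : ℕ) (f : MvPolynomial (Fin r) R) :
    dq t j n (Submodule.Quotient.mk f) = Submodule.Quotient.mk (pderiv j f) := by
  refine (Submodule.Quotient.eq _).2 ?_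
  obtain ⟨g, hg⟩ := (mem_It_pow t).1 ((Submodule.Quotient.eq _).1 (Quotient.out_eq
    (Submodule.Quotient.mk (p := (It (r := r) t ^ n • ⊤ : Submodule (MvPolynomial (Fin r) R) (MvPolynomial (Fin r) R))) f)))
  rw [← map_sub, hg]
  exact (mem_It_pow t).2 ⟨pderiv j g, pderiv_C_mul⟩

/-- The derivative `∂ⱼ` of the completed polynomial ring. -/
def dhatFun (j : Fin r) (x : At t r) : At t r :=
  ⟨fun n => dq t j n (x.val n), fun {m n} hmn => by
    obtain ⟨f, hf⟩ := Submodule.Quotient.mk_surjective _ (x.val n)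
    have hm : x.val m = Submodule.Quotient.mk f := by rw [← x.2 hmn, ← hf]; rfl
    simp only [hm, ← hf, dq_mk]
    rfl⟩

theorem dhatFun_of (j : Fin r) (f : MvPolynomial (Fin r) R) :
    dhatFun t j (AdicCompletion.of _ _ f) = AdicCompletion.of _ _ (pderiv j f) :=
  AdicCompletion.ext fun n => dq_mk t j n f

/-- `∂ⱼ` as a derivation. -/
def dhat (j : Fin r) : Derivation R (At t r) (At t r) :=
  Derivation.mk'
    { toFun := dhatFun t j
      map_add' := fun x y => AdicCompletion.ext fun n => by
        obtain ⟨f, hf⟩ := Submodule.Quotient.mk_surjective _ (x.val n)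
        obtain ⟨g, hg⟩ := Submodule.Quotient.mk_surjective _ (y.val n)
        show dq t j n (x.val n + y.val n) = dq t j n (x.val n) + dq t j n (y.val n)
        rw [← hf, ← hg, ← Submodule.Quotient.mk_add, dq_mk, dq_mk, dq_mk, map_add, Submodule.Quotient.mk_add]
      map_smul' := fun s x => AdicCompletion.ext fun n => by
        obtain ⟨f, hf⟩ := Submodule.Quotient.mk_surjective _ (x.val n)
        show dq t j n (s • x.val n) = s • dq t j n (x.val n)
        rw [← hf, ← Submodule.Quotient.mk_smul, dq_mk, dq_mk, (pderiv j).map_smul, Submodule.Quotient.mk_smul] }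
    fun x y => AdicCompletion.ext fun n => by
      obtain ⟨f, hf⟩ := Submodule.Quotient.mk_surjective _ (x.val n)
      obtain ⟨g, hg⟩ := Submodule.Quotient.mk_surjective _ (y.val n)
      show dq t j n (x.val n * y.val n) = x.val n * dq t j n (y.val n) + y.val n * dq t j n (x.val n)
      rw [← hf, ← hg]
      show dq t j n (Submodule.Quotient.mk (f * g)) = _
      rw [dq_mk, dq_mk, dq_mk, Derivation.leibniz]
      rfl

theorem dhat_of (j : Fin r) (f : MvPolynomial (Fin r) R) :
    dhat t j (AdicCompletion.of _ _ f) = AdicCompletion.of _ _ (pderiv j f) := dhatFun_of t j f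

/-- Polynomials are dense. -/
theorem exists_of_add (x : At t r) (n : ℕ) :
    ∃ (f : MvPolynomial (Fin r) R) (y : At t r),
      x = AdicCompletion.of _ _ f + algebraMap R (At t r) (t ^ n) * y := by
  obtain ⟨f, hf⟩ := Submodule.Quotient.mk_surjective _ (x.val n)
  have h : x - AdicCompletion.of _ _ f ∈ (AdicCompletion.eval (It (r := r) t) _ n).ker := by
    rw [LinearMap.mem_ker, map_sub, sub_eq_zero]
    exact hf.symm
  rw [← AdicCompletion.pow_smul_top_eq_ker_eval (⟨{C t}, by simp⟩ : (It (r := r) t).FG),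
    Ideal.span_singleton_pow, ← map_pow, Submodule.ideal_span_singleton_smul,
    Submodule.mem_smul_pointwise_iff_exists] at h
  obtain ⟨y, -, hy⟩ := h
  refine ⟨f, y, ?_⟩
  rw [IsScalarTower.algebraMap_apply R (MvPolynomial (Fin r) R) (At t r), ← Algebra.smul_def, MvPolynomial.algebraMap_eq,
    hy, add_sub_cancel]

end Groth.Agent.CIFitt27
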