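import Groth.Agent.Lib.AdicSmooth.FieldFS
import Groth.Agent.Lib.RelCyc15.Length
import Mathlib.RingTheory.Regular.Flat
import Mathlib.RingTheory.KrullDimension.Regular
import Mathlib.RingTheory.Ideal.Cotangent
import Mathlib.Algebra.Module.SpanRankOperations
import Mathlib.RingTheory.Polynomial.Basic
import Mathlib.Algebra.MvPolynomial.PDeriv
import Mathlib.LinearAlgebra.Matrix.ToLin

/-!
# The Jacobian of a reduced complete intersection over a perfect field is injective

At a minimal prime the equations form a basis of the cotangent space of affine space, and a section of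
`R/m² → R/m` over the ground field shows that their differentials stay independent.
-/

universe u

open MvPolynomial IsLocalRing

namespace Groth.Agent.CIFitt27

theorem taylor {F Q : Type u} [CommRing F] [CommRing Q] [Algebra F Q] {σ : Type} [Fintype σ]
    (Φ₁ Φ₂ : MvPolynomial σ F →ₐ[F] Q) (N : Ideal Q) (hN : ∀ a ∈ N, ∀ b ∈ N, a * b = 0)
    (h : ∀ y, Φ₁ (X y) - Φ₂ (X y) ∈ N) (g : MvPolynomial σ F) :
    Φ₁ g - Φ₂ g = ∑ y, Φ₂ (pderiv y g) * (Φ₁ (X y) - Φ₂ (X y)) := by
  classical
  induction g using MvPolynomial.induction_on with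
  | C r =>
    simp only [pderiv_C, map_zero, zero_mul, Finset.sum_const_zero]
    rw [← MvPolynomial.algebraMap_eq, AlgHom.commutes, AlgHom.commutes, sub_self]
  | add p q hp hq =>
    simp only [map_add, add_mul, Finset.sum_add_distrib, ← hp, ← hq]
    ring
  | mul_X p i hp =>
    have hE : Φ₁ p - Φ₂ p ∈ N := by
      rw [hp]
      exact sum_mem fun y _ => Ideal.mul_mem_left _ _ (h y)
    have hz := hN _ hE _ (h i)
    have h2 : ∀ y, Φ₂ (pderiv y (p * X i)) * (Φ₁ (X y) - Φ₂ (X y)) =
        (if i = y then Φ₂ p * (Φ₁ (X i) - Φ₂ (X i)) else 0) +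
          Φ₂ (X i) * (Φ₂ (pderiv y p) * (Φ₁ (X y) - Φ₂ (X y))) := fun y => by
      rw [Derivation.leibniz, map_add, smul_eq_mul, smul_eq_mul, map_mul, map_mul, pderiv_X, Pi.single_apply]
      by_cases e : i = y
      · subst e; simp only [if_true, map_one]; ring
      · rw [if_neg e, if_neg e, map_zero]; ring
    rw [Finset.sum_congr rfl fun y _ => h2 y, Finset.sum_add_distrib, Finset.sum_ite_eq, ← Finset.mul_sum, ← hp,
      if_pos (Finset.mem_univ i), map_mul, map_mul]
    linear_combination hz

/-- Over a perfect field, elements generating the maximal ideal of a local algebra of dimension at least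
their number have independent differentials at the residue field. -/
theorem indep {k R : Type u} [Field k] [PerfectField k] [CommRing R] [IsLocalRing R] [IsNoetherianRing R]
    [Algebra k R] {r c : ℕ} (θ : MvPolynomial (Fin r) k →ₐ[k] R) (a w : Fin c → MvPolynomial (Fin r) k)
    (ham : ∀ j, θ (a j) ∈ maximalIdeal R) (hmspan : maximalIdeal R = Ideal.span (Set.range fun j => θ (a j)))
    (hdim : (c : WithBot ℕ∞) ≤ ringKrullDim R)
    (hw : ∀ y, θ (∑ j, w j * pderiv y (a j)) ∈ maximalIdeal R) (i : Fin c) : θ (w i) ∈ maximalIdeal R := by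
  classical
  let K := ResidueField R
  -- independence in the cotangent space
  let t : Fin c → CotangentSpace R := fun j => (maximalIdeal R).toCotangent ⟨_, ham j⟩
  have htspan : ⊤ ≤ Submodule.span K (Set.range t) := fun z _ => by
    obtain ⟨⟨x, hx⟩, rfl⟩ := Ideal.toCotangent_surjective _ z
    obtain ⟨d, hd⟩ := Ideal.mem_span_range_iff_exists_fun.1 (hmspan.le hx)
    have : (maximalIdeal R).toCotangent ⟨x, hx⟩ = ∑ j, algebraMap R K (d j) • t j := by
      simp only [K, t, algebraMap_smul, ← map_smul, ← map_sum]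
      refine congrArg _ (Subtype.ext ?_)
      simp [← hd]
    rw [this]
    exact sum_mem fun j _ => Submodule.smul_mem _ _ (Submodule.subset_span ⟨j, rfl⟩)
  have hli : LinearIndependent K t := by
    refine linearIndependent_iff_card_eq_finrank_span.2 ?_
    rw [Fintype.card_fin, Set.finrank, top_le_iff.1 htspan, finrank_top]
    refine le_antisymm ?_ ?_
    · have h := hdim.trans (ringKrullDim_le_spanFinrank_maximalIdeal R)
      rw [IsLocalRing.spanFinrank_maximalIdeal_eq_finrank_cotangentSpace] at h
      exact_mod_cast h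
    · have := finrank_range_le_card (R := K) (b := t)
      rwa [Set.finrank, top_le_iff.1 htspan, finrank_top, Fintype.card_fin] at this
  -- differentials stay independent
  let m2 := maximalIdeal R ^ 2
  let g : R ⧸ m2 →ₐ[k] K := Ideal.Quotient.liftₐ m2 (IsScalarTower.toAlgHom k R K) fun x hx =>
    (IsLocalRing.residue_eq_zero_iff x).2 (Ideal.pow_le_self two_ne_zero hx)
  have hg : Function.Surjective g := fun z => by
    obtain ⟨x, rfl⟩ := IsLocalRing.residue_surjective z
    exact ⟨Ideal.Quotient.mk m2 x, rfl⟩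
  let N : Ideal (R ⧸ m2) := RingHom.ker (g : R ⧸ m2 →+* K)
  have hN : ∀ x ∈ N, ∀ y ∈ N, x * y = 0 := fun x hx y hy => by
    obtain ⟨x, rfl⟩ := Ideal.Quotient.mk_surjective x
    obtain ⟨y, rfl⟩ := Ideal.Quotient.mk_surjective y
    rw [← map_mul, Ideal.Quotient.eq_zero_iff_mem, show m2 = maximalIdeal R * maximalIdeal R from pow_two _]
    exact Ideal.mul_mem_mul ((IsLocalRing.residue_eq_zero_iff x).1 hx) ((IsLocalRing.residue_eq_zero_iff y).1 hy)
  have hnil : IsNilpotent N := ⟨2, (pow_two N).trans (le_bot_iff.1 (Ideal.mul_le.2 fun x hx y hy => hN x hx y hy))⟩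
  haveI : Algebra.FormallySmooth k K := FieldFS.formallySmooth_of_perfectField k K
  let s : K →ₐ[k] R ⧸ m2 := Algebra.FormallySmooth.liftOfSurjective (AlgHom.id k K) g hg hnil
  let Φ₁ : MvPolynomial (Fin r) k →ₐ[k] R ⧸ m2 := (Ideal.Quotient.mkₐ k m2).comp θ
  let Φ₂ : MvPolynomial (Fin r) k →ₐ[k] R ⧸ m2 := s.comp ((IsScalarTower.toAlgHom k R K).comp θ)
  have hres : ∀ x, θ x ∈ maximalIdeal R → Φ₂ x = 0 := fun x hx => by
    show s (IsLocalRing.residue R (θ x)) = 0
    rw [(IsLocalRing.residue_eq_zero_iff _).2 hx, map_zero]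
  have hδ : ∀ x, Φ₁ x - Φ₂ x ∈ N := fun x => by
    rw [RingHom.mem_ker, map_sub, sub_eq_zero]
    exact (Algebra.FormallySmooth.liftOfSurjective_apply (AlgHom.id k K) g hg hnil _).symm
  have hπa : ∀ j, Φ₁ (a j) ∈ N := fun j => by simpa [hres _ (ham j)] using hδ (a j)
  have hzero : Φ₁ (∑ j, w j * a j) = 0 := by
    calc Φ₁ (∑ j, w j * a j) = ∑ j, Φ₂ (w j) * Φ₁ (a j) := by
          rw [map_sum]
          refine Finset.sum_congr rfl fun j _ => ?_
          rw [map_mul]
          linear_combination hN _ (hδ (w j)) _ (hπa j)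
      _ = ∑ j, ∑ y, Φ₂ (w j * pderiv y (a j)) * (Φ₁ (X y) - Φ₂ (X y)) := by
          refine Finset.sum_congr rfl fun j _ => ?_
          have := taylor Φ₁ Φ₂ N hN (fun y => hδ _) (a j)
          rw [hres _ (ham j), sub_zero] at this
          rw [this, Finset.mul_sum]
          simp only [map_mul, mul_assoc]
      _ = 0 := by
          rw [Finset.sum_comm]
          refine Finset.sum_eq_zero fun y _ => ?_
          rw [← Finset.sum_mul, ← map_sum, hres _ (hw y), zero_mul]
  have hsum : ∑ j, algebraMap R K (θ (w j)) • t j = 0 := by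
    simp only [K, t, algebraMap_smul, ← map_smul, ← map_sum]
    rw [Ideal.toCotangent_eq_zero]
    have := Ideal.Quotient.eq_zero_iff_mem.1 hzero
    simpa using this
  exact (IsLocalRing.residue_eq_zero_iff _).1 (Fintype.linearIndependent_iff.1 hli _ hsum i)

/-- The Jacobian matrix over the quotient. -/
noncomputable def jac {k : Type u} [CommRing k] {r c : ℕ} {B : Type u} [CommRing B] [Algebra k B]
    (φ : MvPolynomial (Fin r) k →ₐ[k] B) (a : Fin c → MvPolynomial (Fin r) k) : Matrix (Fin c) (Fin r) B :=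
  fun i j => φ (pderiv j (a i))

variable {k : Type u} [Field k] [PerfectField k] {r c : ℕ} {B : Type u} [CommRing B] [Algebra k B]
  (φ : MvPolynomial (Fin r) k →ₐ[k] B) (a : Fin c → MvPolynomial (Fin r) k)

theorem coeff_mem_prime [IsReduced B] (hφ : Function.Surjective φ)
    (ha : RingTheory.Sequence.IsWeaklyRegular (MvPolynomial (Fin r) k) (List.ofFn a))
    (hker : RingHom.ker φ.toRingHom = Ideal.span (Set.range a)) (p : Ideal B) (hpm : p ∈ minimalPrimes B)
    (v : Fin c → B) (hv : Matrix.vecMul v (jac φ a) = 0) (i : Fin c) : v i ∈ p := by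
  classical
  haveI : p.IsPrime := hpm.1.1
  let P := MvPolynomial (Fin r) k
  let q : Ideal P := p.comap φ.toRingHom
  let R := Localization.AtPrime q
  choose w hw using fun j => hφ (v j)
  have hφa : ∀ j, φ (a j) = 0 := fun j => RingHom.mem_ker.1 (hker.ge (Ideal.subset_span ⟨j, rfl⟩))
  have haq : ∀ j, a j ∈ q := fun j => show φ (a j) ∈ p by rw [hφa]; exact p.zero_mem
  have hmem : ∀ x : P, algebraMap P R x ∈ maximalIdeal R ↔ φ x ∈ p := fun x =>
    IsLocalization.AtPrime.to_map_mem_maximal_iff R q x
  have hmspan : maximalIdeal R = Ideal.span (Set.range fun j => algebraMap P R (a j)) := by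
    refine le_antisymm (fun x hx => ?_) (Ideal.span_le.2 (Set.range_subset_iff.2 fun j => (hmem _).2 (haq j)))
    obtain ⟨y, s, rfl⟩ := IsLocalization.exists_mk'_eq q.primeCompl x
    have hy : φ y ∈ p := (IsLocalization.AtPrime.mk'_mem_maximal_iff R q y s).1 hx
    have hfield := RelCyc15.isField_localization_of_minimalPrimes p hpm
    have h0 : algebraMap B (Localization.AtPrime p) (φ y) = 0 := by
      have := (IsLocalization.AtPrime.to_map_mem_maximal_iff (Localization.AtPrime p) p (φ y)).2 hy
      rwa [(IsLocalRing.isField_iff_maximalIdeal_eq.1 hfield), Ideal.mem_bot] at this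
    obtain ⟨⟨t, ht⟩, htu⟩ := (IsLocalization.map_eq_zero_iff p.primeCompl _ _).1 h0
    obtain ⟨t', rfl⟩ := hφ t
    have hm : t' * y ∈ Ideal.span (Set.range a) := hker.le ((map_mul φ t' y).trans htu)
    have h1 : algebraMap P R t' * algebraMap P R y ∈ Ideal.span (Set.range fun j => algebraMap P R (a j)) := by
      rw [← map_mul, Set.range_comp' (algebraMap P R) a, ← Ideal.map_span]
      exact Ideal.mem_map_of_mem _ hm
    have hu : IsUnit (algebraMap P R t') := IsLocalization.map_units R (⟨t', fun h => ht h⟩ : q.primeCompl)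
    rw [IsLocalization.mk'_eq_mul_mk'_one]
    exact Ideal.mul_mem_right _ _ ((Ideal.unit_mul_mem_iff_mem _ hu).1 h1)
  have hreg : RingTheory.Sequence.IsRegular R ((List.ofFn a).map (algebraMap P R)) :=
    RingTheory.Sequence.IsWeaklyRegular.isRegular_of_isLocalization_of_mem R q ha fun x hx => by
      obtain ⟨j, rfl⟩ := List.mem_ofFn.1 hx
      exact haq j
  have hdim : (c : WithBot ℕ∞) ≤ ringKrullDim R := by
    haveI : Nontrivial (R ⧸ Ideal.ofList ((List.ofFn a).map (algebraMap P R))) :=
      Ideal.Quotient.nontrivial_iff.2 fun h => hreg.top_ne_smul (by rw [h, Submodule.top_smul])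
    rw [← ringKrullDim_add_length_eq_ringKrullDim_of_isRegular _ hreg, List.length_map, List.length_ofFn]
    exact le_add_of_nonneg_left ringKrullDim_nonneg_of_nontrivial
  have h := indep (IsScalarTower.toAlgHom k P R) a w (fun j => (hmem _).2 (haq j)) hmspan hdim
    (fun y => (hmem _).2 ?_) i
  · rw [← hw i]
    exact (hmem _).1 h
  · have := congrFun hv y
    simp only [Matrix.vecMul, dotProduct, jac] at this
    simp only [map_sum, map_mul, hw, this]
    exact p.zero_mem

theorem jac_injective [IsReduced B] (hφ : Function.Surjective φ)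
    (ha : RingTheory.Sequence.IsWeaklyRegular (MvPolynomial (Fin r) k) (List.ofFn a))
    (hker : RingHom.ker φ.toRingHom = Ideal.span (Set.range a)) :
    Function.Injective (jac φ a).vecMulLinear := by
  refine (injective_iff_map_eq_zero _).2 fun v hv => funext fun i => ?_
  have h : v i ∈ sInf (minimalPrimes B) := Ideal.mem_sInf.2 fun {p} hp => coeff_mem_prime φ a hφ ha hker p hp v hv i
  rw [show minimalPrimes B = (⊥ : Ideal B).minimalPrimes from rfl, Ideal.sInf_minimalPrimes] at h
  exact IsReduced.eq_zero _ (mem_nilradical.1 h)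

end Groth.Agent.CIFitt27
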